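import Cfsg.Agent.SCv.Defs
import Cfsg.Agent.StdX.Fam
import Cfsg.Prelude.Def_Spor_J2
import Cfsg.Prelude.Def_Spor_Suz

/-!
# Standard subgroups of type `M₁₂` centralised by an outer involution: definitions
-/

set_option autoImplicit false

namespace Cfsg.Lib.SM12

open Subgroup Cfsg.Lib.Gold Cfsg.Lib.Trans Cfsg.Lib.StdSz Cfsg.Lib.StdW Cfsg.Lib.SGn
open Cfsg.Lib.StdM (Cl)
open Cfsg.Lib.SCv (V)
open scoped commutatorElement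

universe u

variable {G Ω : Type*} [Group G] [Group Ω]

/-- named elements: `j1, j2, j3` lie in a subgroup `4²` inverted by `y` and rotated by `θ` -/
structure Dt (G : Type*) where
  y : G
  θ : G
  j1 : G
  j2 : G
  j3 : G
  a1 : G
  a2 : G
  a3 : G
  c1 : G
  c2 : G
  s : G
  s1 : G
  p : G

/-- the image of the named elements -/
def Dt.map {G Ω : Type*} (f : G → Ω) (d : Dt G) : Dt Ω :=
  ⟨f d.y, f d.θ, f d.j1, f d.j2, f d.j3, f d.a1, f d.a2, f d.a3, f d.c1, f d.c2, f d.s, f d.s1, f d.p⟩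

/-- facts on an outer involution `σ` -/
structure Ou (N A : Subgroup G) (d : Dt G) (σ : G) : Prop where
  σN : σ ∈ N
  σA : σ ∉ A
  σ2 : σ * σ = 1
  σy : Commute σ d.y
  σθ : Commute σ d.θ
  σj : σ * d.j1 * σ⁻¹ = d.j1 * d.a2
  σF : σ ∈ Cs (V A 3 d.y)
  ocl : ∀ x ∈ N, x ∉ A → x * x = 1 → Cl A σ x

/-- local facts on `A` and an overgroup `N` in which it has index at most two -/
structure Lf (N A : Subgroup G) (d : Dt G) : Prop where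
  le : A ≤ N
  nrm : N ≤ Ns A
  idx : ∀ x ∈ N, ∀ y ∈ N, x ∉ A → y ∉ A → x * y ∈ A
  yA : d.y ∈ A
  θA : d.θ ∈ A
  jA : d.j1 ∈ A
  sA : d.s ∈ A
  s1A : d.s1 ∈ A
  pA : d.p ∈ A
  e2 : d.θ * d.j1 * d.θ⁻¹ = d.j2
  e3 : d.θ * d.j2 * d.θ⁻¹ = d.j3
  e1 : d.θ * d.j3 * d.θ⁻¹ = d.j1
  q1 : d.j1 * d.j1 = d.a1
  q2 : d.j2 * d.j2 = d.a2
  q3 : d.j3 * d.j3 = d.a3
  jc : Commute d.j1 d.j2
  jp : d.j1 * d.j2 * d.j3 = 1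
  a2' : d.a1 * d.a1 = 1
  a1' : d.a1 ≠ 1
  a12 : d.a1 ≠ d.a2
  y2 : d.y * d.y = 1
  yj : d.y * d.j1 * d.y⁻¹ = d.j1⁻¹
  yθ : Commute d.y d.θ
  f1 : d.y * d.j1 = d.c1
  f2 : d.y * d.j2 = d.c2
  s11 : d.s1 * d.a1 * d.s1⁻¹ = d.a1
  s12 : d.s1 * d.a2 * d.s1⁻¹ = d.a3
  sc1 : d.s * d.c1 * d.s⁻¹ = d.c2
  sc2 : d.s * d.c2 * d.s⁻¹ = d.c1
  sa1 : d.s * d.a1 * d.s⁻¹ = d.a2
  sa2 : d.s * d.a2 * d.s⁻¹ = d.a1
  p3 : d.p ^ 3 = 1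
  p1 : d.p * d.a1 * d.p⁻¹ = d.a1
  p2 : d.p * d.a2 * d.p⁻¹ = d.c1
  pc : d.p * d.c1 * d.p⁻¹ = d.a2 * d.c1
  cD : N ⊓ Cs (V A 3 d.a1) ≤ zpowers d.a1
  jD : d.j1 ∈ V A 3 d.a1
  aD : d.a2 ∈ V A 3 d.a1
  nD : d.y * d.j3 ∉ V A 3 d.a1
  iD : ∀ e ∈ A ⊓ C1 d.a1, ∀ e' ∈ A ⊓ C1 d.a1, e ∉ V A 3 d.a1 → e' ∉ V A 3 d.a1 → e * e' ∈ V A 3 d.a1
  cT4 : ∀ g ∈ A, Commute g d.a1 → Commute g d.a2 →
    g ∈ closure {d.j1, d.j2} ∨ d.y * g ∈ closure {d.j1, d.j2}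
  cT0 : ∀ g ∈ N, Commute g d.j1 → Commute g d.j2 → Commute g d.y → g ∈ closure {d.a1, d.a2}
  cV1 : ∀ g ∈ A, Commute g d.a1 → Commute g d.a2 → Commute g d.c1 → g ∈ closure {d.a1, d.a2, d.c1}
  nc : d.c1 ∉ closure {d.a1, d.a2}
  a1F : d.a1 ∈ V A 3 d.y
  a2F : d.a2 ∈ V A 3 d.y
  aut : ∀ φ : MulAut ↥(N ⊓ C1 d.a1), ∃ g ∈ N ⊓ C1 d.a1,
    (∀ x : ↥(N ⊓ C1 d.a1), (x : G) ∈ V A 3 d.a1 → (φ x : G) = g * x * g⁻¹) ∨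
      (N ≤ A ∧ ∀ x : ↥(N ⊓ C1 d.a1), ((x : G) = d.a2 → (φ x : G) = g * d.a2 * g⁻¹) ∧
        ((x : G) = d.j1 → (φ x : G) = g * (d.j1 * d.a2) * g⁻¹))
  out : N ≤ A ∨ ∃ σ, Ou N A d σ

/-- `X` has index two and does not contain `t` -/
structure Xd (X A : Subgroup G) (t : G) : Prop where
  nrm : X.Normal
  tX : t ∉ X
  idx : ∀ g, g ∈ X ∨ g * t ∈ X
  le : A ≤ X

/-- the configuration modulo the odd part of the centraliser -/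
structure Cr (X A : Subgroup G) (t : G) (d : Dt G) : Prop extends Xd X A t where
  tt : t * t = 1
  tA : t ∈ Cs A
  lf : Lf (X ⊓ C1 t) A d
  sw : ∃ k, k * t * k⁻¹ = t * d.a1 ∧ k * d.a1 * k⁻¹ = d.a1

/-- an equivariant family of involutions with `v a * t * v a = t * a` -/
structure Fv (A : Subgroup G) (t z : G) (v : G → G) : Prop where
  sq : ∀ {a}, Cl A z a → v a * v a = 1
  vt : ∀ {a}, Cl A z a → v a * t * v a = t * a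
  vc : ∀ {a x}, Cl A z a → x ∈ A → Commute x a → Commute (v a) x
  eqv : ∀ {a g}, Cl A z a → g ∈ A → v (g * a * g⁻¹) = g * v a * g⁻¹

/-- the configuration found in the automorphism group of the Suzuki group -/
structure Sx (X A : Subgroup G) (t y σ a1 a2 x1 x2 : G) : Prop where
  yA : y ∈ A
  a1F : a1 ∈ V A 3 y
  a2F : a2 ∈ V A 3 y
  σX : σ ∈ X
  σA : σ ∉ A
  σt : Commute σ t
  σy : Commute σ y
  σF : σ ∈ Cs (V A 3 y)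
  y2 : y * y = 1
  σ2 : σ * σ = 1
  a12 : a1 * a1 = 1
  a22 : a2 * a2 = 1
  a11 : a1 ≠ 1
  a21 : a2 ≠ 1
  ane : a1 ≠ a2
  ac : Commute a1 a2
  x1X : x1 ∈ X
  x2X : x2 ∈ X
  x12 : x1 * x1 = 1
  x22 : x2 * x2 = 1
  xc : Commute x1 x2
  c11 : Commute x1 a1
  c12 : Commute x1 a2
  c21 : Commute x2 a1
  c22 : Commute x2 a2
  t1 : x1 * t * x1⁻¹ = t * a1
  t2 : x2 * t * x2⁻¹ = t * a2
  y1 : x1 * y * x1⁻¹ = y * a1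
  y2' : x2 * y * x2⁻¹ = y * a2
  s1 : σ * x1 * σ⁻¹ = x1 * a2
  s2 : σ * x2 * σ⁻¹ = x2 * (a1 * a2)
  k1 : IsConj t (t * σ)
  k2 : IsConj t (t * (σ * y))

/-- facts on an involution `e` centralised by an alternating group of degree five -/
structure Fe (Γ Γ0 : Subgroup Ω) (z e : Ω) : Prop where
  iso : Nonempty (V Γ0 3 e ≃* alternatingGroup (Fin 5))
  odd : ∀ x ∈ Γ ⊓ C1 e, Odd (orderOf x) → x ∈ V Γ0 3 e
  inv : ∀ w ∈ V Γ0 3 e, w * w = 1 → w ≠ 1 → Cl Γ0 z w ∧ Cl Γ0 e (e * w)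
  four : Nat.card ↥(Γ ⊓ Cs (V Γ0 3 e)) ≤ 4

/-- a Sylow 2-subgroup has only one elementary subgroup of order 16 -/
def M2 (Γ : Subgroup Ω) : Prop :=
  ∀ U ≤ Γ, ∀ W ≤ Γ, E16 U → E16 W → IsPGroup 2 ↥(U ⊔ W) → U = W

/-- a family on the class of `z` with values in an overgroup -/
structure Fw (Γ0 : Subgroup Ω) (z : Ω) (ι v : Ω → G) : Prop where
  mul : ∀ x ∈ Γ0, ∀ y ∈ Γ0, ι (x * y) = ι x * ι y
  inj : ∀ x ∈ Γ0, ι x = 1 → x = 1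
  sq : ∀ a, Cl Γ0 z a → v a * v a = 1
  eqv : ∀ a, ∀ g ∈ Γ0, Cl Γ0 z a → v (g * a * g⁻¹) = ι g * v a * (ι g)⁻¹

/-- the first exotic system of relations collapses -/
def LpA (Γ0 : Subgroup Ω) (d : Dt Ω) : Prop :=
  ∀ (H : Type u) [Group H] (ι v : Ω → H), Fw Γ0 d.a1 ι v → v d.a1 * v d.a2 = v d.a3 →
    v d.a2 * v d.c1 = v (d.a2 * d.c1) * ι d.a1 → False

/-- the second exotic system of relations collapses -/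
def LpD (Γ0 : Subgroup Ω) (d : Dt Ω) : Prop :=
  ∀ (H : Type u) [Group H] (ι v : Ω → H), Fw Γ0 d.a1 ι v → v d.a1 * v d.a2 = v d.a3 →
    v d.a2 * v d.c1 = v (d.a2 * d.c1) → ⁅v d.c1, v d.c2 * ι d.c2⁆ = ι d.a3 →
      ⁅v d.c1, v (d.c2 * d.a2) * ι (d.c2 * d.a2)⁆ = ι d.a3 → False

/-- a generating set of involutions in relation -/
def Cq (Γ0 : Subgroup Ω) (d : Dt Ω) : Prop :=
  ∀ R : Ω → Ω → Prop, (∀ a, Cl Γ0 d.a1 a → R a a) → (∀ a b, R a b → R b a) →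
    (∀ a b, ∀ g ∈ Γ0, R a b → R (g * a * g⁻¹) (g * b * g⁻¹)) →
    (∀ a x y, R a x → R a y → R x y → R a (x * y * x)) →
    R d.a1 d.a2 → R d.a2 d.c1 → R d.c1 d.c2 → R d.c1 (d.c2 * d.a2) →
    ∃ I : Set Ω, Γ0 ≤ closure I ∧ ∀ i ∈ I, ∀ j ∈ I, R i j

/-- all facts on the model -/
structure Mod (Γ Γ0 T : Subgroup Ω) (d : Dt Ω) (σ : Ω) : Prop where
  bs : Bs Γ Γ0 T d.a1 d.y 6 4
  ot : Ot Γ Γ0 σ 4 3 4
  db : DB Γ Γ0 6 5 3 6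
  lf : Lf Γ Γ0 d
  lf0 : Lf Γ0 Γ0 d
  fy : Fe Γ Γ0 d.a1 d.y
  fσ : Fe Γ Γ0 d.a1 σ
  z5 : ¬ 5 ∣ Nat.card ↥(Γ ⊓ C1 d.a1)
  m2 : M2 Γ
  lpA : LpA.{u} Γ0 d
  lpD : LpD.{u} Γ0 d
  cq : Cq Γ0 d
  iso : Nonempty (Γ0 ≃* Spor.M12)

/-- the global configuration -/
structure Gl (Γ Γ0 : Subgroup Ω) (X A O : Subgroup G) (ρ : G → Ω) (t : G) : Prop extends Xd X A t where
  mdl : Mdl Γ Γ0 A ρ
  hZ : A ⊓ Cs A = ⊥
  tt : t * t = 1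
  tA : t ∈ Cs A
  cN : C1 t ≤ Ns A
  eO : O = X ⊓ Cs A ⊓ C1 t
  odd : Odd (Nat.card ↥(X ⊓ Cs A))
  simple : IsSimpleGroup X
  cs : Cs X = ⊥

/-- a standard subgroup of type `J₂` leads to the Suzuki group -/
def J2P : Prop :=
  ∀ (G : Type u) [Group G] [Finite G] (L X : Subgroup G), IsStandardSubgroup L → Spor.IsoJ2 L →
    oddCore G = ⊥ → X.Normal → IsSimpleGroup X → L ≤ X → Cs X = ⊥ → Spor.IsoSuz X

theorem map_eq_1' : type_of% @Dt.map.eq_1 := @Dt.map.eq_1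

theorem M2_eq_1' : type_of% @M2.eq_1 := @M2.eq_1

theorem LpA_eq_1'.{v, w} : type_of% @LpA.eq_1.{v, w} := @LpA.eq_1.{v, w}

theorem LpD_eq_1'.{v, w} : type_of% @LpD.eq_1.{v, w} := @LpD.eq_1.{v, w}

theorem Cq_eq_1' : type_of% @Cq.eq_1 := @Cq.eq_1

theorem J2P_eq_1' : type_of% @J2P.eq_1.{u} := @J2P.eq_1.{u}

end Cfsg.Lib.SM12
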