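import Cfsg.Agent.SM12.Defs

/-!
# Standard subgroups of type `M₁₂` centralised by an outer involution: the local configuration
-/

set_option autoImplicit false

namespace Cfsg.Lib.SM12

open Subgroup Cfsg.Lib.Gold Cfsg.Lib.Trans Cfsg.Lib.StdSz Cfsg.Lib.StdW

variable {G Ω : Type*} [Group G] [Group Ω]

/-- the local part of the global configuration -/
structure Gl0 (Γ Γ0 : Subgroup Ω) (X A : Subgroup G) (ρ : G → Ω) (t : G) : Prop extends Xd X A t where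
  mdl : Mdl Γ Γ0 A ρ
  hZ : A ⊓ Cs A = ⊥
  tt : t * t = 1
  tA : t ∈ Cs A
  cN : C1 t ≤ Ns A
  odd : Odd (Nat.card ↥(X ⊓ Cs A))

theorem Gl.gl0 {Γ Γ0 : Subgroup Ω} {X A O : Subgroup G} {ρ : G → Ω} {t : G} (g : Gl Γ Γ0 X A O ρ t) :
    Gl0 Γ Γ0 X A ρ t :=
  ⟨g.toXd, g.mdl, g.hZ, g.tt, g.tA, g.cN, g.odd⟩

/-- the elements of `X` centralising the four-group and normalising its coset `t T₄` -/
def MM (X : Subgroup G) (t : G) (e : Dt G) : Set G :=
  {m | m ∈ X ∧ Commute m e.a1 ∧ Commute m e.a2 ∧ t * (m * t * m⁻¹) ∈ closure {e.a1, e.a2}}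

theorem MM_eq_1' : type_of% @MM.eq_1 := @MM.eq_1

end Cfsg.Lib.SM12
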